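import Groth.Agent.VBTwo.Ext
import Groth.Agent.VBTwo.Unique
import Groth.Agent.W7Slope.H0Bound
import Groth.Agent.W7Slope.Twist
import Groth.Agent.CurveRR.Pencil
import Groth.Agent.Higgs.Secant
import Groth.Agent.TMul.AffineLocus

/-!
# The base point free pencil trick
-/

set_option autoImplicit false
set_option linter.style.haveILetI false
set_option linter.unusedSectionVars false
set_option backward.isDefEq.respectTransparency false
set_option backward.isDefEq.respectTransparency.types false

universe u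

open CategoryTheory CategoryTheory.Limits AlgebraicGeometry TopologicalSpace Opposite
open Groth.Agent.CohFinite Groth.Agent.CurveRR Groth.Agent.W7Slope
open Groth.Agent.QC (res res_self res_smul)
open TMul (homOf val_homOf)

noncomputable section

namespace Groth.Agent.Cliff9

variable {X : Scheme.{u}}

/-- The map `D' → O` given by a section of `D`. -/
def pair {D D' : X.Modules} (e : CohB1.tensorMod D D' ≅ Coh.structureModule X) (v : Coh.structureModule X ⟶ D) :
    D' ⟶ Coh.structureModule X :=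
  (TMul.leftUnitIso D').inv ≫ tmap v D' ≫ e.hom

theorem pair_app {D D' : X.Modules} (e : CohB1.tensorMod D D' ≅ Coh.structureModule X) (v : Coh.structureModule X ⟶ D)
    {U : X.Opens} (x : Γ(D', U)) : (pair e v).app U x = ev e (TMul.val v U) x := by
  have h : (TMul.leftUnitIso D').inv.app U x = TMul.tm (show Γ(X, U) from 1) x := by
    have h1 : (TMul.leftUnitIso D').hom.app U (TMul.tm (show Γ(X, U) from 1) x) = x :=
      (CurveRR.leftUnitIso_tm D' _ x).trans (one_smul _ x)
    conv_lhs => rw [← h1]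
    exact congrArg (fun f : CohB1.tensorMod (Coh.structureModule X) D' ⟶ CohB1.tensorMod (Coh.structureModule X) D' =>
      f.app U (TMul.tm (show Γ(X, U) from 1) x)) (TMul.leftUnitIso D').hom_inv_id
  show e.hom.app U ((tmap v D').app U ((TMul.leftUnitIso D').inv.app U x)) = _
  rw [h, tmap_tm, TMul.app_eq_smul, one_smul]
  rfl

theorem pair_comm {D D' : X.Modules} (hD : PicF.IsInvertible D) (e : CohB1.tensorMod D D' ≅ Coh.structureModule X)
    (v w : Coh.structureModule X ⟶ D) : pair e v ≫ w = pair e w ≫ v := by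
  apply Scheme.Modules.hom_ext
  intro U
  ext x
  show w.app U ((pair e v).app U x) = v.app U ((pair e w).app U x)
  rw [pair_app, pair_app, TMul.app_eq_smul, TMul.app_eq_smul]
  refine Groth.Agent.QC.section_eq_of_locally fun y hy => ?_
  obtain ⟨V, hV, g, hyV, hg⟩ := exists_gen_le hD hy
  refine ⟨V, hV, hyV, ?_⟩
  have hres : ∀ u : Coh.structureModule X ⟶ D, res D hV (TMul.val u U) = TMul.val u V := fun u => TMul.res_val u hV
  have hev : ∀ u : Coh.structureModule X ⟶ D,
      Groth.Agent.QC.resO X hV (ev e (TMul.val u U) x) = ev e (TMul.val u V) (res D' hV x) := fun u => by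
    show res (Coh.structureModule X) hV (e.hom.app U _) = e.hom.app V _
    rw [Groth.Agent.QC.app_res, TMul.res_tm, hres]
  rw [res_smul, res_smul, hev, hev, hres, hres]
  obtain ⟨a, ha⟩ := (hg V le_rfl).2 (TMul.val v V)
  obtain ⟨b, hb⟩ := (hg V le_rfl).2 (TMul.val w V)
  rw [← ha, ← hb]
  change ev e (a • res D le_rfl g) _ • b • res D le_rfl g = ev e (b • res D le_rfl g) _ • a • res D le_rfl g
  rw [ev_smul, ev_smul, smul_smul, smul_smul]
  congr 1
  ring

variable (k : Type u) [Field k] [X.Over (Spec (CommRingCat.of k))] [IsProper (X ↘ Spec (CommRingCat.of k))]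

include k in
/-- Sections of a split extension. -/
theorem h0_split (S : ShortComplex X.Modules) (sp : S.Splitting) (h₁ : Coh.IsCoh S.X₁) (h₂ : Coh.IsCoh S.X₂)
    (h₃ : Coh.IsCoh S.X₃) : h k S.X₂ 0 = h k S.X₁ 0 + h k S.X₃ 0 := by
  haveI := finite_proper k X S.X₂ h₂ 0
  have hS := sp.shortExact
  have hsurj : Function.Surjective (hhMap k S.g 0) := fun y =>
    ⟨hhMap k sp.s 0 y, by rw [← hhMap_comp, sp.s_g]; exact hhMap_id k _ _ _⟩
  have h4 := LinearMap.finrank_range_add_finrank_ker (hhMap k S.g 0)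
  rw [LinearMap.range_eq_top.2 hsurj, finrank_top] at h4
  rw [← range_f_eq_ker_g (k := k) hS 0, LinearMap.finrank_range_of_inj (injective_f (k := k) hS)] at h4
  unfold CurveRR.h
  omega

variable [IsIntegral X] [IsAlgClosed k]

include k in
/-- The base point free pencil trick. -/
theorem two_h0_le (hX : RegCurve X) {D : X.Modules} (hD : PicF.IsInvertible D) (hgg : Curv2.IsGloballyGenerated D)
    (h2 : h k D 0 = 2) {D' : X.Modules} (hD' : PicF.IsInvertible D') (e : CohB1.tensorMod D D' ≅ Coh.structureModule X)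
    {F : X.Modules} (hF : PicF.IsInvertible F) :
    2 * h k F 0 ≤ h k (CohB1.tensorMod D' F) 0 + h k (CohB1.tensorMod D F) 0 := by
  classical
  haveI := isNoetherian_of_proper k X
  let O := Coh.structureModule X
  have hO : PicF.IsInvertible O := TMul.isInvertible_structureModule
  letI := secMod k D ⊤
  haveI := finite_proper k X D (isCoh_of_inv hD) 0
  haveI : Module.Finite k Γ(D, ⊤) := Module.Finite.equiv (secH0 (k := k) D).symm
  have hfr : Module.finrank k Γ(D, ⊤) = 2 := by rw [finrank_sec, h2]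
  let b := Module.finBasisOfFinrankEq k Γ(D, ⊤) hfr
  let s : O ⟶ D := homOf (b 0)
  let t : O ⟶ D := homOf (b 1)
  let W : X.Modules := O ⊞ O
  let f : W ⟶ D := biprod.desc s t
  have happ : ∀ (v : Γ(D, ⊤)) (c : Γ(X, ⊤)),
      TMul.val (homOf (L := O) c ≫ homOf (L := D) v) ⊤ = c • v := fun v c => by
    rw [TMul.val_comp, val_homOf, res_self, TMul.app_eq_smul, val_homOf, res_self]
  obtain ⟨ι, p, hp⟩ := hgg
  have hfac : ∀ i : ι, ∃ x : O ⟶ W, x ≫ f = SheafOfModules.ιFree (R := X.ringCatSheaf) i ≫ p := fun i => by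
    let v : Γ(D, ⊤) := TMul.val (show O ⟶ D from SheafOfModules.ιFree (R := X.ringCatSheaf) i ≫ p) ⊤
    refine ⟨biprod.lift (homOf (L := O) (cst k X ⊤ (b.repr v 0))) (homOf (L := O) (cst k X ⊤ (b.repr v 1))),
      TMul.hom_ext_val ?_⟩
    rw [biprod.lift_desc]
    show TMul.val (homOf (L := O) _ ≫ s) ⊤ + TMul.val (homOf (L := O) _ ≫ t) ⊤ = v
    rw [happ, happ]
    have h3 := b.sum_repr v
    rw [Fin.sum_univ_two] at h3
    exact h3
  choose x hx using hfac
  haveI : Epi f := by
    haveI := hp
    have hpe : Cofan.IsColimit.desc (SheafOfModules.isColimitFreeCofan (R := X.ringCatSheaf) ι) x ≫ f = p := by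
      refine Cofan.IsColimit.hom_ext (SheafOfModules.isColimitFreeCofan (R := X.ringCatSheaf) ι) _ _ fun j => ?_
      rw [← Category.assoc, Cofan.IsColimit.fac, hx]
      rfl
    rw [← hpe] at hp
    exact @epi_of_epi _ _ _ _ _ _ f hp
  let S₀ : ShortComplex X.Modules := ShortComplex.mk (biprod.inl : O ⟶ W) biprod.snd biprod.inl_snd
  let sp : S₀.Splitting := ShortComplex.Splitting.ofHasBinaryBiproduct O O
  have hW : FlatMod.IsFinLocFreeOfRank 2 W := VBTwo.rank_two_middle k (S := S₀) sp.shortExact hO hO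
  have hWd : Curv2.deg k X W 2 = 0 := by
    have := Easy.deg_add (k := k) S₀ sp.shortExact (isFinLocFreeOfRank_one hO) hW (isFinLocFreeOfRank_one hO) rfl
    rw [deg_structure] at this
    simpa using this
  have hS := shortExact_ker f
  have hK := isFinLocFree_sub k hX (kernel.ι f) (W7Slope.isCoh_kernel k (isCoh_of_rank hW) (isCoh_of_inv hD) f) hW
  have hgK : grk (kernel f) = 1 := by
    have h3 := grk_add hS (isCoh_of_rank hW)
    change grk W = grk (kernel f) + grk D at h3
    rw [grk_of_rank hW, grk_of_rank (isFinLocFreeOfRank_one hD)] at h3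
    omega
  rw [hgK] at hK
  have hKi := ZeroSch.isInvertible_of_rankOne hK
  have hdK : Curv2.deg k X (kernel f) 1 = -Curv2.deg k X D 1 := by
    have := Easy.deg_add (k := k) _ hS hK hW (isFinLocFreeOfRank_one hD) rfl
    change Curv2.deg k X W 2 = Curv2.deg k X (kernel f) 1 + Curv2.deg k X D 1 at this
    omega
  let κ : D' ⟶ W := biprod.lift (pair e t) (-pair e s)
  have hκ : κ ≫ f = 0 := by
    rw [biprod.lift_desc, Preadditive.neg_comp, pair_comm hD e t s, add_neg_cancel]
  have hκ0 : kernel.lift f κ hκ ≠ 0 := fun h0 => by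
    have h3 : κ = 0 := by rw [← kernel.lift_ι f κ hκ, h0, zero_comp]
    have h5 : pair e t = 0 := by
      have := congrArg (· ≫ (biprod.fst : W ⟶ O)) h3
      simpa [κ] using this
    have h6 : tmap t D' = 0 := by
      refine (cancel_epi (TMul.leftUnitIso D').inv).1 ?_
      refine (cancel_mono e.hom).1 ?_
      rw [Category.assoc]
      exact h5.trans (by rw [comp_zero, zero_comp])
    have h7 : t = 0 := Higgs.tmap_injective hD' (h6.trans (tmap_zero _).symm)
    refine b.ne_zero 1 ?_
    have h8 := congrArg (fun u : O ⟶ D => TMul.val u ⊤) h7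
    simp only [t, val_homOf, res_self] at h8
    exact h8
  have hdD' := deg_tensor_inv (k := k) hX.dim hD hD'
  rw [W7Slope.deg_iso (k := k) e, deg_structure] at hdD'
  haveI := (deg_le_and_isIso (k := k) hX.dim hD' hKi _ hκ0).2 (by omega)
  have hFr := isFinLocFreeOfRank_one hF
  have hT := shortExact_tmap hF hS
  have hle := W7Slope.h0_le_add (k := k) hT (isCoh_of_inv (TMul.isInvertible_tensorMod hKi hF))
    (isCoh_tensor' (isCoh_of_rank hW) (isCoh_of_inv hF)) (isCoh_of_inv (TMul.isInvertible_tensorMod hD hF))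
  change h k (CohB1.tensorMod W F) 0 ≤ h k (CohB1.tensorMod (kernel f) F) 0 + h k (CohB1.tensorMod D F) 0 at hle
  rw [← h_eq_of_iso (PicGrp.tensorModIso (asIso (kernel.lift f κ hκ)) (Iso.refl F)) (q := 0)] at hle
  let sp' : (ShortComplex.mk (tmap S₀.f F) (tmap S₀.g F) (by rw [← tmap_comp, S₀.zero, tmap_zero])).Splitting :=
    { r := tmap sp.r F, s := tmap sp.s F
      f_r := by show tmap S₀.f F ≫ tmap sp.r F = _; rw [← tmap_comp, sp.f_r, CohFinite.tmap_id]
      s_g := by show tmap sp.s F ≫ tmap S₀.g F = _; rw [← tmap_comp, sp.s_g, CohFinite.tmap_id]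
      id := by
        show tmap sp.r F ≫ tmap S₀.f F + tmap S₀.g F ≫ tmap sp.s F = _
        rw [← tmap_comp, ← tmap_comp, ← CohFinite.tmap_add, sp.id, CohFinite.tmap_id] }
  have h3 := h0_split k _ sp' (isCoh_of_inv (TMul.isInvertible_tensorMod hO hF))
    (isCoh_tensor' (isCoh_of_rank hW) (isCoh_of_inv hF)) (isCoh_of_inv (TMul.isInvertible_tensorMod hO hF))
  change h k (CohB1.tensorMod W F) 0 = h k (CohB1.tensorMod O F) 0 + h k (CohB1.tensorMod O F) 0 at h3
  rw [h_eq_of_iso (TMul.leftUnitIso F) (q := 0)] at h3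
  omega

include k in
/-- Riemann–Roch. -/
theorem rr (hX : RegCurve X) (M : X.Modules) :
    Curv2.deg k X M 1 = (h k M 0 : ℤ) - h k M 1 + (Curv2.genus k X : ℤ) - 1 := by
  rw [Curv2.deg, euler_structure hX.dim (h0_structure k X), euler_eq hX.dim]
  push_cast
  ring

end Groth.Agent.Cliff9
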